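import Cfsg.Agent.Mrg.Omega.NO3S.TwoOne.Bridge
import Cfsg.Agent.Mrg.Omega.NO3S.Pt.Path
import Cfsg.Agent.Mrg.Omega.NOThree.Pts
import Cfsg.Agent.Mrg.Omega.NO3S.Dual.Basic
import Cfsg.Agent.Mrg.Omega.NOThree.TF.Blk

-- merged: Cfsg.Agent.Mrg.Omega.NO3S.Pt.Plug
section

/-!
# NO-3S, `|V_P| = 4`: from `Hyp S P` to `Fr` and `Cr`

* `fr_four` : `Fr S V z` from `Hyp S P`, `|V_P| = 4` and (F1);
* `cr_of_crit` : a critical pair `CritP S P n 1 y` gives `Cr V n z (y z y⁻¹)`.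
-/

set_option autoImplicit false

namespace Cfsg.Agent.Omega.NO3S.Pt

open Subgroup Cfsg Cfsg.Agent.Omega.MinPar Cfsg.Agent.Omega.Frame Cfsg.Agent.Omega.FrameNOFF
open Cfsg.Agent.ZN (zl zc o2)
open Cfsg.Agent.Omega.NoFF.Lines Cfsg.Agent.Omega.NO3S.TwoOne
open Cfsg.Agent.MinSimple.VModule
open scoped Pointwise

universe u

variable {G : Type u} [Group G] [Finite G] {S : Sylow 2 G} {P : Subgroup G}

/-- `|V_P| = 4` and (F1) -/
theorem fr_four (h : Hyp S P) (hc : Nat.card (zl (S : Subgroup G) P) = 4) {z : G}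
    (hz : z ∈ zc (S : Subgroup G)) (hz1 : z ≠ 1)
    (f1 : ∃ k ∈ MinSimple.Geo.kq (zl (S : Subgroup G) P) z,
      k ∉ centralizer (zl (S : Subgroup G) P : Set G)) :
    Fr (S : Subgroup G) (zl (S : Subgroup G) P) z := by
  refine ⟨ln_four h hc hz hz1, ?_, f1⟩
  intro a ha b hb
  rw [ws_four h hc hz hz1] at ha hb
  exact mem_centralizer_iff.1 (h.W_comm hb) a ha

/-- `W_x` in both languages -/
theorem conj_WW (h : Hyp S P) (hc : Nat.card (zl (S : Subgroup G) P) = 4) {z : G}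
    (hz : z ∈ zc (S : Subgroup G)) (hz1 : z ≠ 1) (x : G) :
    MulAut.conj x • WW (S : Subgroup G) P = MinSimple.Geo.ws (zl (S : Subgroup G) P) (x * z * x⁻¹) := by
  rw [conj_smul_eq_cj, ← ws_four h hc hz hz1, MinSimple.Geo.cj_ws]

theorem com_iff (h : Hyp S P) (hc : Nat.card (zl (S : Subgroup G) P) = 4) {z : G}
    (hz : z ∈ zc (S : Subgroup G)) (hz1 : z ≠ 1) (x y : G) :
    NoFF.Lines.Com (zc (S : Subgroup G)) (CZ (S : Subgroup G)) {P} x y ↔
      Com (zl (S : Subgroup G) P) (x * z * x⁻¹) (y * z * y⁻¹) := by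
  have h1 := conj_WW h hc hz hz1 x
  have h2 := conj_WW h hc hz hz1 y
  unfold NoFF.Lines.Com Com
  constructor
  · intro hcom a ha b hb
    rw [← h1] at ha
    rw [← h2] at hb
    exact (mem_centralizer_iff.1 (hcom ha) b hb).symm
  · intro hcom a ha
    rw [mem_centralizer_iff]
    intro b hb
    refine (hcom a ?_ b ?_).symm
    · rw [← h1]; exact ha
    · rw [← h2]; exact hb

/-- a path of points gives a path of cosets -/
theorem path_of_pth (h : Hyp S P) (hc : Nat.card (zl (S : Subgroup G) P) = 4) {z : G}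
    (hz : z ∈ zc (S : Subgroup G)) (hz1 : z ≠ 1)
    (hf : Fr (S : Subgroup G) (zl (S : Subgroup G) P) z) {k : ℕ} {a b : G}
    (hp : Pth (zl (S : Subgroup G) P) k a b) :
    ∃ x y, x * z * x⁻¹ = a ∧ y * z * y⁻¹ = b ∧
      NoFF.Lines.Path (CZ (S : Subgroup G)) {P} k x y := by
  induction hp with
  | zero hx =>
    obtain ⟨x, hx⟩ := hf.isPt hx
    exact ⟨x, x, hx, hx, NoFF.Lines.Path.refl x⟩
  | step _ c ih =>
    rename_i k a b w _
    obtain ⟨x, m, hx, hm, hpath⟩ := ih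
    obtain ⟨g, hb, hw, -, hw1⟩ := c
    have hl := ln_four h hc hz hz1
    have hmem : MinSimple.Geo.cj (m⁻¹ * g) (zl (S : Subgroup G) P) ∈
        MinSimple.Geo.lines (zl (S : Subgroup G) P) z := by
      refine ⟨⟨_, rfl⟩, ?_⟩
      rw [MinSimple.Geo.mem_cj] at hb ⊢
      have e : (m⁻¹ * g)⁻¹ * z * (m⁻¹ * g) = g⁻¹ * (m * z * m⁻¹) * g := by group
      rw [e, hm]; exact hb
    obtain ⟨c, hcz, hce⟩ := hl.exists_of_mem_lines hmem
    have hwc : (m * c)⁻¹ * w * (m * c) ∈ zl (S : Subgroup G) P := by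
      rw [← MinSimple.Geo.mem_cj, ← MinSimple.Geo.cj_cj, ← hce, MinSimple.Geo.cj_cj]
      have e : m * (m⁻¹ * g) = g := by group
      rw [e]; exact hw
    have hwc1 : (m * c)⁻¹ * w * (m * c) ≠ 1 := fun e => hw1 (by
      have : w = (m * c) * ((m * c)⁻¹ * w * (m * c)) * (m * c)⁻¹ := by group
      rw [this, e]; group)
    obtain ⟨p, hp, hpz⟩ := exists_conj_four h.ctx h.star h.nonLoc hc hz hz1 hwc hwc1
    refine ⟨x, m * c * p * 1, hx, ?_, ?_⟩
    · calc m * c * p * 1 * z * (m * c * p * 1)⁻¹ = (m * c) * (p * z * p⁻¹) * (m * c)⁻¹ := by group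
        _ = w := by rw [hpz]; group
    · refine (hpath.mul_right ?_).step rfl hp (one_mem _)
      rw [← centralizer_singleton_eq_CZ h hc hz hz1]
      exact hcz

/-- a path of cosets gives a path of points -/
theorem pth_of_path (h : Hyp S P) (hc : Nat.card (zl (S : Subgroup G) P) = 4) {z : G}
    (hz : z ∈ zc (S : Subgroup G)) (hz1 : z ≠ 1)
    (hf : Fr (S : Subgroup G) (zl (S : Subgroup G) P) z) {k : ℕ} {x y : G}
    (hp : NoFF.Lines.Path (CZ (S : Subgroup G)) {P} k x y) :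
    Pth (zl (S : Subgroup G) P) k (x * z * x⁻¹) (y * z * y⁻¹) := by
  have hfix : ∀ c ∈ CZ (S : Subgroup G), c * z * c⁻¹ = z := by
    intro c hcC
    rw [← centralizer_singleton_eq_CZ h hc hz hz1, mem_centralizer_singleton_iff] at hcC
    rw [hcC]; group
  induction hp with
  | @zero g c hcC =>
    have e : g * c * z * (g * c)⁻¹ = g * (c * z * c⁻¹) * g⁻¹ := by group
    rw [e, hfix c hcC]
    exact Pth.zero (hf.col_conj_z g)
  | @step k g m p c Q _ hQ hp hcC ih =>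
    rw [Set.mem_singleton_iff] at hQ
    subst hQ
    have e : m * p * c * z * (m * p * c)⁻¹ = (m * p) * (c * z * c⁻¹) * (m * p)⁻¹ := by group
    rw [e, hfix c hcC]
    refine ih.step ⟨m, MinSimple.Geo.conj_mem_cj hf.ln.z_mem, ?_, fun e => hz1 (conj_eq_one_iff.1 e),
      fun e => hz1 (conj_eq_one_iff.1 e)⟩
    rw [MinSimple.Geo.mem_cj]
    have e : m⁻¹ * (m * p * z * (m * p)⁻¹) * m = p * z * p⁻¹ := by group
    rw [e]
    exact (mem_normalizer_iff.1 (Cfsg.Agent.ZN.le_normalizer_zl _ _ hp) z).1 hf.ln.z_mem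

/-- **critical pairs in the language of points** -/
theorem cr_of_crit (h : Hyp S P) (hc : Nat.card (zl (S : Subgroup G) P) = 4) {z : G}
    (hz : z ∈ zc (S : Subgroup G)) (hz1 : z ≠ 1)
    (hf : Fr (S : Subgroup G) (zl (S : Subgroup G) P) z) {n : ℕ} {y : G}
    (hy : CritP (S : Subgroup G) P n 1 y) : Cr (zl (S : Subgroup G) P) n z (y * z * y⁻¹) := by
  have e1 : (1 : G) * z * (1 : G)⁻¹ = z := by group
  refine ⟨?_, ?_, ?_⟩
  · have := pth_of_path h hc hz hz1 hf hy.path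
    rwa [e1] at this
  · have := hy.ne
    rw [com_iff h hc hz hz1, e1] at this
    exact this
  · intro k hk a b hab
    obtain ⟨x, y, rfl, rfl, hp⟩ := path_of_pth h hc hz hz1 hf hab
    rw [← com_iff h hc hz hz1]
    exact hy.min k hk x y hp

end Cfsg.Agent.Omega.NO3S.Pt

end

-- merged: Cfsg.Agent.Mrg.Omega.NO3S.TwoFar.Inst
section

section


/-!
# NO-3S, `|V_P| = 4`: the instance `Pt.Fr ⟹ Pts.Geom` (`s = 2`)

* `PT V` : the points (the involutions of the conjugates of `V`), `LT V` : the conjugates of `V`, with the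
  conjugation actions (`PT.smul_val`, `LT.smul_val`); `inc x l := x ∈ l`, `RR x = ⟨x⟩`, `WS x = W_x`, `VL l = l`;
* `geom` : `Pt.Fr T V z` gives `NOThree.Pts.Geom inc RR WS VL 2 t`, `t = |W_z : ii V|`;
* `walk_iff`, `com_iff'`, `crit_iff` : walks, commuting, critical pairs in both languages;
* `stab_eq` : the stabiliser of the point `x` is `C_G(x)`;
* `exists_crit` : from `Hyp S P`, `|V_P| = 4`, (F1) and a critical pair of cosets.
-/

set_option autoImplicit false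

namespace Cfsg.Agent.Omega.NO3S.TwoFar

open Subgroup Cfsg Cfsg.Agent.ZN Cfsg.Agent.MinSimple.Geo Cfsg.Agent.Omega.CaseL Cfsg.Agent.Omega.NO3S.TwoOne
open Cfsg.Agent.Omega.NO3S.Pt
open Cfsg.Agent.Omega.NOThree (Pts.Geom)
open Cfsg.Agent.ZN.Block (conj_mem_of_normalizer conj_mem_of_normalizer' le_normalizer_of_forall
  mem_normalizer_of)

universe u

variable {G : Type u} [Group G]

/-- the points -/
def PT (V : Subgroup G) : Type u := {x : G // Col V x x}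

/-- the lines -/
def LT (V : Subgroup G) : Type u := {l : Subgroup G // ∃ g : G, l = cj g V}

instance (V : Subgroup G) : MulAction G (PT V) where
  smul g x := ⟨g * x.1 * g⁻¹, x.2.conj g⟩
  one_smul x := Subtype.ext (by change 1 * x.1 * 1⁻¹ = x.1; group)
  mul_smul g h x := Subtype.ext (by
    change g * h * x.1 * (g * h)⁻¹ = g * (h * x.1 * h⁻¹) * g⁻¹
    group)

instance (V : Subgroup G) : MulAction G (LT V) where
  smul g l := ⟨cj g l.1, by obtain ⟨k, hk⟩ := l.2; exact ⟨g * k, by rw [hk, cj_cj]⟩⟩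
  one_smul l := Subtype.ext (cj_one _)
  mul_smul g h l := Subtype.ext (cj_cj g h l.1).symm

theorem PT.smul_val {V : Subgroup G} (g : G) (x : PT V) : (g • x).1 = g * x.1 * g⁻¹ := rfl

theorem LT.smul_val {V : Subgroup G} (g : G) (l : LT V) : (g • l).1 = cj g l.1 := rfl

theorem PT.ext {V : Subgroup G} {x y : PT V} (h : x.1 = y.1) : x = y := Subtype.ext h

theorem LT.ext {V : Subgroup G} {x y : LT V} (h : x.1 = y.1) : x = y := Subtype.ext h

/-- incidence -/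
def inc {V : Subgroup G} (x : PT V) (l : LT V) : Prop := x.1 ∈ l.1

/-- the point as a subgroup -/
def RR {V : Subgroup G} (x : PT V) : Subgroup G := zpowers x.1

/-- `W_x` -/
def WS {V : Subgroup G} (x : PT V) : Subgroup G := ws V x.1

/-- the line as a subgroup -/
def VL {V : Subgroup G} (l : LT V) : Subgroup G := l.1

theorem PT.ne_one {V : Subgroup G} (x : PT V) : x.1 ≠ 1 := x.2.ne_one

/-- a point from a nontrivial element of a line -/
def pt {V : Subgroup G} {g x : G} (hx : x ∈ cj g V) (hx1 : x ≠ 1) : PT V := ⟨x, g, hx, hx, hx1, hx1⟩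

/-- a line -/
def ln (V : Subgroup G) (g : G) : LT V := ⟨cj g V, g, rfl⟩

section

variable {T V : Subgroup G} {z : G}

theorem mem_RR (h : Fr T V z) {x : PT V} {a : G} : a ∈ RR x ↔ a = 1 ∨ a = x.1 :=
  mem_zpowers_iff_of_mul_self (h.pt_sq x.2)

theorem cj_ii (g : G) (V : Subgroup G) : cj g (ii V) = ii (cj g V) := by
  have key : ∀ (g : G) (V : Subgroup G), cj g (ii V) ≤ ii (cj g V) := by
    intro g V u hu p hp hp1
    rw [mem_cj] at hu hp
    have hp1' : g⁻¹ * p * g ≠ 1 := fun e => hp1 (by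
      have : p = g * (g⁻¹ * p * g) * g⁻¹ := by group
      rw [this, e]; group)
    have h1 := conj_mem_ws g (hu _ hp hp1')
    have e1 : g * (g⁻¹ * u * g) * g⁻¹ = u := by group
    have e2 : g * (g⁻¹ * p * g) * g⁻¹ = p := by group
    rw [e1, e2] at h1
    rwa [ws_cj]
  refine le_antisymm (key g V) ?_
  have := key g⁻¹ (cj g V)
  rwa [cj_inv_cj, cj_le_iff, inv_inv] at this

/-- `W_x ∩ W_y = I_l` -/
theorem inf_eq (h : Fr T V z) {l : LT V} {x y : PT V} (hx : inc x l) (hy : inc y l) (hxy : x ≠ y) :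
    WS x ⊓ WS y = ii l.1 := by
  obtain ⟨g, hg⟩ := l.2
  have hx' : x.1 ∈ cj g V := hg ▸ hx
  have hy' : y.1 ∈ cj g V := hg ▸ hy
  rw [hg]
  refine le_antisymm (fun u hu => ?_) (le_inf (h.ii_cj_le hx' x.ne_one) (h.ii_cj_le hy' y.ne_one))
  exact h.mem_ii_cj hx' x.ne_one hy' y.ne_one (fun e => hxy (PT.ext e.symm)) hu.1 hu.2

theorem index_eq (h : Fr T V z) {l : LT V} {x : PT V} (hx : inc x l) :
    (ii l.1).relIndex (WS x) = (ii V).relIndex (ws V z) := by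
  obtain ⟨g, hg⟩ := l.2
  have hx' : x.1 ∈ cj g V := hg ▸ hx
  obtain ⟨k, hk, hkz, -⟩ := h.flag hx' x.ne_one
  rw [hg, ← hk, ← cj_ii]
  have e : WS x = cj k (ws V z) := by
    rw [cj_ws, hkz]; rfl
  rw [e, relIndex_cj]

/-- **the instance** -/
theorem geom [Finite G] (h : Fr T V z) :
    NOThree.Pts.Geom (inc (V := V)) RR WS VL 2 ((ii V).relIndex (ws V z)) where
  inc_smul g x l hx := conj_mem_cj hx
  R_smul g x a ha := by
    rw [mem_RR h] at ha ⊢
    rcases ha with rfl | rfl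
    · left; group
    · right; rfl
  W_smul g x a ha := conj_mem_ws g ha
  V_smul g l a ha := conj_mem_cj ha
  two_le := le_rfl
  card x := by
    change Nat.card (zpowers x.1) = 2
    rw [Nat.card_zpowers, orderOf_eq_prime_iff]
    exact ⟨by rw [pow_two]; exact h.pt_sq x.2, x.ne_one⟩
  ti x y a hx hy ha := by
    rw [mem_RR h] at hx hy
    rcases hx with e | e
    · exact absurd e ha
    rcases hy with e' | e'
    · exact absurd e' ha
    exact PT.ext (e.symm.trans e')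
  R_le x l hx a ha := by
    rw [mem_RR h] at ha
    rcases ha with rfl | rfl
    · exact one_mem _
    · exact hx
  V_le x l hx := le_ws ⟨l.2, hx⟩
  W_le x A hA := ws_le fun L hL => hA ⟨L, hL.1⟩ hL.2
  cover l a ha := by
    obtain ⟨g, hg⟩ := l.2
    by_cases ha1 : a = 1
    · refine ⟨pt (g := g) (conj_mem_cj h.ln.z_mem) (fun e => h.ln.z_ne (conj_eq_one_iff.mp e)), ?_, ?_⟩
      · change g * z * g⁻¹ ∈ l.1
        rw [hg]
        exact conj_mem_cj h.ln.z_mem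
      · rw [ha1]; exact one_mem _
    · have ha' : a ∈ cj g V := hg ▸ ha
      exact ⟨pt ha' ha1, ha, mem_zpowers _⟩
  exists_line x := by
    obtain ⟨g, hg, -⟩ := x.2
    exact ⟨ln V g, hg⟩
  comm x := h.ws_comm x.2
  sq x := h.ws_sq x.2
  F1 x y w l hx hy hw hxy hxw := by rw [inf_eq h hx hy hxy, inf_eq h hx hw hxw]
  index x y l hx hy hxy := by rw [inf_eq h hx hy hxy, index_eq h hx]
  F2 x y w l hx hy hw hxy u hux huy huV := by
    obtain ⟨g, hg⟩ := l.2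
    have hu : u ∈ WS x ⊓ WS y := ⟨hux, huy⟩
    rw [inf_eq h hx hy hxy, hg] at hu
    have hx' : x.1 ∈ cj g V := hg ▸ hx
    have hw' : w.1 ∈ cj g V := hg ▸ hw
    have huV' : u ∉ cj g V := hg ▸ huV
    obtain ⟨c, hc, hcu, hcx⟩ := h.ftwo_cj hu huV' hx' x.ne_one hw' w.ne_one
    refine ⟨c, hcu, LT.ext ?_, PT.ext hcx⟩
    rw [LT.smul_val, hg]
    exact cj_eq_of_mem_normalizer hc

theorem walk_of_pth {k : ℕ} {a b : G} (hp : Pth V k a b) :
    ∀ (ha : Col V a a) (hb : Col V b b), NOThree.Pts.Walk (inc (V := V)) k ⟨a, ha⟩ ⟨b, hb⟩ := by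
  induction hp with
  | zero _ => exact fun _ _ => .zero _
  | step hp c ih =>
    intro ha hb
    obtain ⟨g, h1, h2, -, -⟩ := id c
    exact (ih ha hp.right).step (l := ln V g) h1 h2

theorem pth_of_walk {k : ℕ} {x y : PT V} (hp : NOThree.Pts.Walk (inc (V := V)) k x y) : Pth V k x.1 y.1 := by
  induction hp with
  | zero x => exact .zero x.2
  | @step k x y w l _ hy hw ih =>
    obtain ⟨g, hg⟩ := l.2
    exact ih.step ⟨g, hg ▸ hy, hg ▸ hw, y.ne_one, w.ne_one⟩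

theorem walk_iff {k : ℕ} {x y : PT V} :
    NOThree.Pts.Walk (inc (V := V)) k x y ↔ Pth V k x.1 y.1 :=
  ⟨pth_of_walk, fun hp => walk_of_pth hp x.2 y.2⟩

theorem com_iff' {x y : PT V} : NOThree.Pts.Com (WS (V := V)) x y ↔ Com V x.1 y.1 := Iff.rfl

theorem crit_iff {n : ℕ} {x y : PT V} :
    NOThree.Pts.Crit (inc (V := V)) WS n x y ↔ Cr V n x.1 y.1 := by
  constructor
  · rintro ⟨h1, h2, h3⟩
    refine ⟨pth_of_walk h1, h2, fun k hk a b hab => ?_⟩
    exact h3 k hk ⟨a, hab.left⟩ ⟨b, hab.right⟩ (walk_of_pth hab _ _)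
  · rintro ⟨h1, h2, h3⟩
    exact ⟨walk_iff.2 h1, h2, fun k hk a b hab => h3 k hk _ _ (pth_of_walk hab)⟩

/-- the stabiliser of a point -/
theorem stab_eq (x : PT V) : MulAction.stabilizer G x = centralizer ({x.1} : Set G) := by
  ext g
  rw [MulAction.mem_stabilizer_iff, mem_centralizer_singleton_iff]
  constructor
  · intro h
    have h1 : g * x.1 * g⁻¹ = x.1 := congrArg Subtype.val h
    exact mul_inv_eq_iff_eq_mul.1 h1
  · intro h
    refine PT.ext ?_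
    change g * x.1 * g⁻¹ = x.1
    rw [h]; group

/-- `G` is transitive on flags -/
theorem exists_flag (h : Fr T V z) {x : PT V} {l : LT V} (hx : inc x l) {y : PT V} {m : LT V} (hy : inc y m) :
    ∃ g : G, g • x = y ∧ g • l = m := by
  obtain ⟨a, ha⟩ := l.2
  obtain ⟨b, hb⟩ := m.2
  have hx' : x.1 ∈ cj a V := ha ▸ hx
  have hy' : y.1 ∈ cj b V := hb ▸ hy
  obtain ⟨k, hk, hkz, -⟩ := h.flag hx' x.ne_one
  obtain ⟨k', hk', hkz', -⟩ := h.flag hy' y.ne_one
  refine ⟨k' * k⁻¹, PT.ext ?_, LT.ext ?_⟩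
  · change k' * k⁻¹ * x.1 * (k' * k⁻¹)⁻¹ = y.1
    rw [← hkz, ← hkz']; group
  · change cj (k' * k⁻¹) l.1 = m.1
    rw [ha, hb, ← hk, ← hk', cj_cj]
    congr 1
    group

end

open Cfsg.Agent.Omega.Frame Cfsg.Agent.Omega.NO3S in
/-- **from the leaf**: `Hyp S P`, `|V_P| = 4`, (F1) and a critical pair of cosets -/
theorem exists_crit [Finite G] {S : Sylow 2 G} {P : Subgroup G} (h : Hyp S P)
    (hc : Nat.card (zl (S : Subgroup G) P) = 4) {z : G} (hz : z ∈ zc (S : Subgroup G)) (hz1 : z ≠ 1)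
    (f1 : ∃ k ∈ kq (zl (S : Subgroup G) P) z, k ∉ centralizer (zl (S : Subgroup G) P : Set G)) {n : ℕ} {y : G}
    (hy : CritP (S : Subgroup G) P n 1 y) :
    Fr (S : Subgroup G) (zl (S : Subgroup G) P) z ∧
      ∃ p q : PT (zl (S : Subgroup G) P), p.1 = z ∧ q.1 = y * z * y⁻¹ ∧
        NOThree.Pts.Crit (inc (V := zl (S : Subgroup G) P)) WS n p q := by
  have hf := fr_four h hc hz hz1 f1
  have hcr := cr_of_crit h hc hz hz1 hf hy
  exact ⟨hf, ⟨z, hcr.path.left⟩, ⟨_, hcr.path.right⟩, rfl, rfl, crit_iff.2 hcr⟩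

end Cfsg.Agent.Omega.NO3S.TwoFar

end

section


/-!
# NO-3S, TwoFar (`|V_P| = 4`, `n ≥ 3`): section 1 of #16267 (helper292), K-free

* `lemM` : LEMMA (M) (`LemmaM.MDat.index_le`, `alpha`, `beta`) in the language of `Pt.Fr`;
* `no_le` : (NO) for a critical pair;
* `Exact V p q` : exact pairs; `Goal V n p x q` : goal pairs, `x` the second point of the path;
* `exact_of_typeI` : (1.1);
* `exact_or_goal` : (1.2).
-/

set_option autoImplicit false

namespace Cfsg.Agent.Omega.NOThree.SecOne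

open Subgroup Cfsg Cfsg.Agent.ZN Cfsg.Agent.MinSimple.Geo Cfsg.Agent.Omega.CaseL Cfsg.Agent.Omega.NO3S.TwoOne
open Cfsg.Agent.Omega.NO3S.Pt Cfsg.Agent.Omega.NO3S.TwoFar
open Cfsg.Agent.Omega.NOThree.LemmaM (NoOver MDat cm mem_cm)

universe u

variable {G : Type u} [Group G] {T V : Subgroup G} {z p q r x f : G} {n : ℕ}

/-- A goal pair `(p, q)`: critical of type I, `[W_p, W_q] ≤ W_p ∩ W_x`, `x` the second point of a geodesic. -/
structure Goal (V : Subgroup G) (n : ℕ) (p x q : G) : Prop where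
  crit : Cr V n p q
  col : Col V p x
  ne : x ≠ p
  path : Pth V (n - 1) x q
  not_mem : p ∉ ws V q
  not_mem' : q ∉ ws V p
  le : ∀ a ∈ ws V p, ∀ b ∈ ws V q, a * b * a⁻¹ * b⁻¹ ∈ ws V p ⊓ ws V x

/-- `C_{W_p}(W_q)` -/
def ee (V : Subgroup G) (p q : G) : Subgroup G := ws V p ⊓ centralizer (ws V q : Set G)

theorem mem_ee {a : G} : a ∈ ee V p q ↔ a ∈ ws V p ∧ ∀ b ∈ ws V q, a * b = b * a := by
  unfold ee
  rw [mem_inf, mem_centralizer_iff]
  exact and_congr_right fun _ => ⟨fun h b hb => (h b hb).symm, fun h b hb => (h b hb).symm⟩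

theorem ee_le : ee V p q ≤ ws V p := inf_le_left

/-- An exact pair. -/
structure Exact (V : Subgroup G) (p q : G) : Prop where
  /-- `W_q ∩ K_p = C_{W_q}(W_p)` -/
  kq : ∀ b ∈ ws V q, b ∈ kq V p → b ∈ ee V q p
  /-- `W_p ∩ K_q = C_{W_p}(W_q)` -/
  kq' : ∀ w ∈ ws V p, w ∈ MinSimple.Geo.kq V q → w ∈ ee V p q
  /-- `C_{W_p}(W_q mod p) = C_{W_p}(W_q)` -/
  cent : ∀ w ∈ ws V p, (∀ b ∈ ws V q, b * w * b⁻¹ * w⁻¹ ∈ zpowers p) → w ∈ ee V p q
  cent' : ∀ b ∈ ws V q, (∀ w ∈ ws V p, w * b * w⁻¹ * b⁻¹ ∈ zpowers q) → b ∈ ee V q p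
  card : (ee V p q).relIndex (ws V p) = (ee V q p).relIndex (ws V q)

namespace Exact

theorem symm (h : Exact V p q) : Exact V q p := ⟨h.kq', h.kq, h.cent', h.cent, h.card.symm⟩

end Exact

theorem goal_typeI (h : Goal V n p x q) : p ∉ ws V q ∧ q ∉ ws V p := ⟨h.not_mem, h.not_mem'⟩

/-- `a * b = b * a` from `[a, b] = 1` -/
theorem comm_of_comm_eq_one {a b : G} (h : a * b * a⁻¹ * b⁻¹ = 1) : a * b = b * a := by
  calc a * b = (a * b * a⁻¹ * b⁻¹) * (b * a) := by group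
    _ = b * a := by rw [h, one_mul]

theorem comm_eq_one {a b : G} (h : a * b = b * a) : a * b * a⁻¹ * b⁻¹ = 1 := by
  rw [h]; group

theorem comm_inv_eq (a b : G) : a * b * a⁻¹ * b⁻¹ = (b * a * b⁻¹ * a⁻¹)⁻¹ := by group

/-- elements of `K_x`: one condition is enough -/
theorem mem_kq_of {c : G} (hc : c ∈ centralizer ({x} : Set G))
    (hw : ∀ w ∈ ws V x, c * w * c⁻¹ * w⁻¹ ∈ zpowers x) : c ∈ kq V x := by
  refine ⟨hc, hw, fun w hw' => ?_⟩
  have hn := centralizer_le_normalizer_ws V x hc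
  have h1 : c⁻¹ * w * c ∈ ws V x := by
    have := (mem_normalizer_iff''.1 hn w).1 hw'
    exact this
  have h2 := hw _ h1
  have e : c * (c⁻¹ * w * c) * c⁻¹ * (c⁻¹ * w * c)⁻¹ = w * (c⁻¹ * w * c)⁻¹ := by group
  rw [e] at h2
  have h3 : c⁻¹ * w * c * w⁻¹ = (w * (c⁻¹ * w * c)⁻¹)⁻¹ := by group
  rw [h3]
  exact inv_mem h2

/-- **LEMMA (M)** in the language of `Pt.Fr`. -/
theorem mdat [Finite G] (h : Fr T V z) (hn : 3 ≤ n) (hc : Cr V n p q) (hr : Pth V (n - 1) p r)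
    (hrq : Col V r q) (hx : Col V x p) (hf : f ∈ ws V q) (hfx : f * x * f⁻¹ ≠ x)
    (hD : ws V x ⊓ ws V (f * x * f⁻¹) ≤ ws V p) :
    ∃ l m : NO3S.TwoFar.LT V, MDat (inc (V := V)) RR WS VL 2 ((ii V).relIndex (ws V z)) n
      ⟨p, hc.path.left⟩ ⟨q, hc.path.right⟩ ⟨r, hr.right⟩ ⟨x, hx.left⟩ l m f := by
  obtain ⟨g, hg1, hg2, -, -⟩ := id hrq
  obtain ⟨k, hk1, hk2, -, -⟩ := id hx
  refine ⟨ln V g, ln V k, ⟨geom h, hn, crit_iff.2 hc, walk_of_pth hr _ _, hg1, hg2, hk1, hk2, hf, ?_, ?_⟩⟩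
  · intro e
    exact hfx (congrArg Subtype.val e)
  · exact fun a ha ha' => hD ⟨ha, ha'⟩

/-- **LEMMA (M)** in the language of `Pt.Fr`: `x ∼ p`, `f ∈ W_q` moves `x`, and (D). -/
theorem lemM [Finite G] (h : Fr T V z) (hn : 3 ≤ n) (hNO : NoOver (inc (V := V)) RR WS VL)
    (hc : Cr V n p q) (hr : Pth V (n - 1) p r) (hrq : Col V r q) (hx : Col V x p) (hf : f ∈ ws V q)
    (hfx : f * x * f⁻¹ ≠ x) (hD : ws V x ⊓ ws V (f * x * f⁻¹) ≤ ws V p) :
    2 * (ii V).relIndex (ws V z) ≤ (ws V x ⊓ centralizer ({f} : Set G)).relIndex (ws V x) ∧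
      (Goal V n x p r ∨
        (Com V x r ∧ p ∉ ws V q ∧ ∀ a ∈ ws V x, ∀ u ∈ ws V q, a * u * a⁻¹ * u⁻¹ ∈ ws V r)) := by
  obtain ⟨l, m, hM⟩ := mdat h hn hc hr hrq hx hf hfx hD
  refine ⟨hM.index_le _ fun a => ?_, ?_⟩
  · rw [mem_inf, mem_centralizer_singleton_iff]
    exact ⟨fun h => ⟨h.1, h.2.symm⟩, fun h => ⟨h.1, h.2.symm⟩⟩
  · by_cases hxr : Com V x r
    · right
      obtain ⟨-, h2, h3⟩ := hM.beta hxr hNO
      refine ⟨hxr, fun hp => ?_, h3⟩
      exact hc.path.left.ne_one (h2 p ((mem_RR h).2 (Or.inr rfl)) hp)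
    · left
      obtain ⟨h1, h2, h3, h4⟩ := hM.alpha hxr
      refine ⟨crit_iff.1 h1, hx, fun e => ?_, hr, fun hx' => ?_, fun hr' => ?_, h4⟩
      · exact hM.ne (PT.ext e.symm)
      · exact hx.ne_one (h2 x ((mem_RR h).2 (Or.inr rfl)) hx')
      · exact hr.right.ne_one (h3 r ((mem_RR h).2 (Or.inr rfl)) hr')

/-- **(NO)** for a critical pair `(p, q)`, `W_p` acting on `W_q`. -/
theorem no_le [Finite G] (h : Fr T V z) (hn : 3 ≤ n) (hNO : NoOver (inc (V := V)) RR WS VL)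
    (hc : Cr V n p q) {N C : Subgroup G}
    (hN : ∀ a, a ∈ N ↔ a ∈ ws V p ∧ ∀ u ∈ ws V q, a * u * a⁻¹ * u⁻¹ ∈ zpowers q)
    (hC : ∀ u, u ∈ C ↔ u ∈ ws V q ∧ ∀ a ∈ ws V p, a * u * a⁻¹ * u⁻¹ ∈ zpowers q) :
    N.relIndex (ws V p) ≤ C.relIndex (ws V q) := by
  obtain ⟨m, rfl⟩ : ∃ m, n = m + 1 := ⟨n - 1, by omega⟩
  obtain ⟨y', g, h1, h2, h3, h4, h5, h6, h7⟩ := hc.last h
  have hcom : Com V p y' := hc.min m (by omega) p y' h1
  refine hNO ⟨q, hc.path.right⟩ (ln V g) h3 (ws V p) h7 (h.ws_comm hc.path.left) (h.ws_sq hc.path.left) ?_ ?_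
    N C hN hC
  · intro y hy hyq a ha u hu huy
    have hy' : y.1 ∈ cj g V := hy
    have h8 : u ∈ ii (cj g V) := h.mem_ii_cj h3 h5 hy' y.ne_one (fun e => hyq (PT.ext e)) hu huy
    exact hcom a ha u (h.ii_cj_le h2 h4 h8)
  · intro a ha b hb u hu
    have h8 : a * u * a⁻¹ * u⁻¹ ∈ ws V p := hc.comm_mem_left h ha hu
    exact h.ws_comm hc.path.left b hb _ h8

theorem cent_zpowers {A : Subgroup G} {c : G} (h : ∀ a ∈ A, a * c = c * a) :
    ∀ a ∈ A, ∀ d ∈ zpowers c, a * d = d * a := by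
  intro a ha d hd
  obtain ⟨k, rfl⟩ := mem_zpowers_iff.1 hd
  exact ((show Commute a c from h a ha).zpow_right k).eq

/-- (NO) in the form `|W_p : W_p ∩ K_q| ≤ |W_q : C_{W_q}(W_p mod q)|`. -/
theorem no_le' [Finite G] (h : Fr T V z) (hn : 3 ≤ n) (hNO : NoOver (inc (V := V)) RR WS VL)
    (hc : Cr V n p q) :
    ∃ N C : Subgroup G, (∀ a, a ∈ N ↔ a ∈ ws V p ∧ a ∈ kq V q) ∧
      (∀ u, u ∈ C ↔ u ∈ ws V q ∧ ∀ a ∈ ws V p, a * u * a⁻¹ * u⁻¹ ∈ zpowers q) ∧
      N.relIndex (ws V p) ≤ C.relIndex (ws V q) := by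
  obtain ⟨m, rfl⟩ : ∃ m, n = m + 1 := ⟨n - 1, by omega⟩
  have hpq : ∀ a ∈ ws V p, a * q = q * a := fun a ha => mem_centralizer_singleton_iff.1 (hc.cent h ha)
  have hqq : ∀ a ∈ ws V q, a * q = q * a := fun a ha =>
    h.ws_comm hc.path.right a ha q (h.mem_ws_self hc.path.right)
  have hN1 := cent_zpowers hpq
  have hC1 := cent_zpowers hqq
  have hN : ∀ a, a ∈ cm (ws V p) (ws V q) (zpowers q) hN1 ↔
      a ∈ ws V p ∧ ∀ u ∈ ws V q, a * u * a⁻¹ * u⁻¹ ∈ zpowers q := fun a => mem_cm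
  have hC : ∀ u, u ∈ cm (ws V q) (ws V p) (zpowers q) hC1 ↔
      u ∈ ws V q ∧ ∀ a ∈ ws V p, a * u * a⁻¹ * u⁻¹ ∈ zpowers q := by
    intro u
    rw [mem_cm]
    refine and_congr_right fun hu => forall₂_congr fun a ha => ?_
    rw [comm_inv_eq a u, inv_mem_iff]
  refine ⟨_, _, fun a => ?_, hC, no_le h hn hNO hc hN hC⟩
  rw [hN]
  refine and_congr_right fun ha => ⟨fun h' => ?_, fun h' => h'.2.1⟩
  exact mem_kq_of (hc.cent h ha) h'

/-- **(1.1)**: pairs of type I are exact. -/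
theorem exact_of_typeI [Finite G] (h : Fr T V z) (hn : 3 ≤ n) (hNO : NoOver (inc (V := V)) RR WS VL)
    (hc : Cr V n p q) (hp : p ∉ ws V q) (hq : q ∉ ws V p) : Exact V p q := by
  have key : ∀ p q : G, Cr V n p q → q ∉ ws V p → ∀ a ∈ ws V p, ∀ b ∈ ws V q,
      a * b * a⁻¹ * b⁻¹ ∈ zpowers q → a * b = b * a := by
    intro p q hc hq a ha b hb hab
    obtain ⟨m, rfl⟩ : ∃ m, n = m + 1 := ⟨n - 1, by omega⟩
    refine comm_of_comm_eq_one ?_
    rcases (mem_zpowers_iff_of_mul_self (h.pt_sq hc.path.right)).1 hab with e | e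
    · exact e
    · exact absurd (e ▸ hc.comm_mem_left h ha hb) hq
  have hle : ∀ p q : G, Cr V n p q → q ∉ ws V p →
      (ee V p q).relIndex (ws V p) ≤ (ee V q p).relIndex (ws V q) := by
    intro p q hc hq
    refine no_le h hn hNO hc (fun a => ?_) fun u => ?_
    · rw [mem_ee]
      refine and_congr_right fun ha => ⟨fun h' b hb => ?_, fun h' b hb => key p q hc hq a ha b hb (h' b hb)⟩
      rw [comm_eq_one (h' b hb)]
      exact one_mem _
    · rw [mem_ee]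
      refine and_congr_right fun hu => ⟨fun h' a ha => ?_, fun h' a ha =>
        (key p q hc hq a ha u hu (h' a ha)).symm⟩
      rw [comm_eq_one (h' a ha).symm]
      exact one_mem _
  refine ⟨fun b hb hk => ?_, fun w hw hk => ?_, fun w hw hk => ?_, fun b hb hk => ?_,
    le_antisymm (hle p q hc hq) (hle q p hc.symm hp)⟩
  · exact mem_ee.2 ⟨hb, fun w hw => key q p hc.symm hp b hb w hw (hk.2.1 w hw)⟩
  · exact mem_ee.2 ⟨hw, fun b hb => key p q hc hq w hw b hb (hk.2.1 b hb)⟩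
  · exact mem_ee.2 ⟨hw, fun b hb => (key q p hc.symm hp b hb w hw (hk b hb)).symm⟩
  · exact mem_ee.2 ⟨hb, fun w hw => (key p q hc hq w hw b hb (hk w hw)).symm⟩

/-- Without goal pairs `x^b = p x` never happens. -/
theorem no_mul [Finite G] (h : Fr T V z) (hn : 3 ≤ n) (hNO : NoOver (inc (V := V)) RR WS VL)
    (hG : ¬ ∃ p x q, Goal V n p x q) (hc : Cr V n p q) (hx : Col V x p) (hxp : x ≠ p) {b : G}
    (hb : b ∈ ws V q) : b * x * b⁻¹ ≠ p * x := by
  intro e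
  obtain ⟨m, rfl⟩ : ∃ m, n = m + 1 := ⟨n - 1, by omega⟩
  obtain ⟨r, g, h1, h2, h3, h4, h5, h6, -⟩ := hc.last h
  have hp1 : p ≠ 1 := hc.path.left.ne_one
  rcases (lemM h hn hNO hc (r := r) h1 (Col.of_mem h2 h3 h4 h5) hx hb (by
    rw [e]
    intro e'
    exact hp1 (by simpa using e')) (by
    rw [e]
    exact h.inf_mul_le hx.symm hxp)).2 with hg | ⟨-, hpq, -⟩
  · exact hG ⟨_, _, _, hg⟩
  · apply hpq
    have h7 : b * x * b⁻¹ * x⁻¹ ∈ ws V q := by
      rw [comm_inv_eq b x]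
      exact inv_mem (hc.comm_mem_right h (h.mem_ws_of_col hx.symm) hb)
    rw [e, mul_inv_cancel_right] at h7
    exact h7

/-- Without goal pairs `W_q ∩ K_p = C_{W_q}(W_p)`. -/
theorem kq_cent [Finite G] (h : Fr T V z) (hn : 3 ≤ n) (hNO : NoOver (inc (V := V)) RR WS VL)
    (hG : ¬ ∃ p x q, Goal V n p x q) (hc : Cr V n p q) {b : G} (hb : b ∈ ws V q) (hbk : b ∈ kq V p) :
    b ∈ ee V q p := by
  rw [mem_ee]
  refine ⟨hb, ?_⟩
  have h1 : ws V p ≤ centralizer ({b} : Set G) := by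
    refine ws_le fun L hL a ha => ?_
    rw [mem_centralizer_singleton_iff]
    obtain ⟨⟨g, rfl⟩, hpL⟩ := hL
    by_cases ha1 : a = 1
    · rw [ha1]; simp
    have hap : Col V a p := ⟨g, ha, hpL, ha1, hc.path.left.ne_one⟩
    by_cases hap' : a = p
    · rw [hap']
      exact (kq_p' hbk).symm
    rcases h.kq_cases' hc.path.left hbk (h.mem_ws_of_col hap.symm) with e | e
    · exact (comm_of_conj_eq e).symm
    · exact absurd e (no_mul h hn hNO hG hc hap hap' hb)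
  intro w hw
  exact (mem_centralizer_singleton_iff.1 (h1 hw)).symm
where
  kq_p' {V : Subgroup G} {p b : G} (hbk : b ∈ kq V p) : b * p = p * b :=
    mem_centralizer_singleton_iff.1 (kq_le_centralizer V p hbk)

/-- **(1.2)** -/
theorem exact_or_goal [Finite G] (h : Fr T V z) (hn : 3 ≤ n) (hNO : NoOver (inc (V := V)) RR WS VL) :
    (∃ p x q, Goal V n p x q) ∨
      ((∀ p q, Cr V n p q → Exact V p q) ∧
        ∀ p q, Cr V n p q → ∀ x, Col V x p → x ≠ p → ∀ b ∈ ws V q, b * x * b⁻¹ ≠ p * x) := by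
  by_cases hG : ∃ p x q, Goal V n p x q
  · exact Or.inl hG
  refine Or.inr ⟨?_, fun p q hc x hx hxp b hb => no_mul h hn hNO hG hc hx hxp hb⟩
  have key : ∀ p q : G, Cr V n p q → ∃ C : Subgroup G,
      (∀ u, u ∈ C ↔ u ∈ ws V q ∧ ∀ a ∈ ws V p, a * u * a⁻¹ * u⁻¹ ∈ zpowers q) ∧ ee V q p ≤ C ∧
      (ee V p q).relIndex (ws V p) ≤ C.relIndex (ws V q) ∧
      C.relIndex (ws V q) ≤ (ee V q p).relIndex (ws V q) := by
    intro p q hc
    obtain ⟨N, C, hN, hC, hle⟩ := no_le' h hn hNO hc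
    have hNe : N = ee V p q := by
      ext a
      rw [hN]
      refine ⟨fun ha => kq_cent h hn hNO hG hc.symm ha.1 ha.2, fun ha => ⟨ha.1, ?_⟩⟩
      obtain ⟨m, rfl⟩ : ∃ m, n = m + 1 := ⟨n - 1, by omega⟩
      refine mem_kq_of (hc.cent h ha.1) fun b hb => ?_
      rw [comm_eq_one ((mem_ee.1 ha).2 b hb)]
      exact one_mem _
    have hCe : ee V q p ≤ C := by
      intro u hu
      rw [hC]
      refine ⟨hu.1, fun a ha => ?_⟩
      rw [comm_eq_one ((mem_ee.1 hu).2 a ha).symm]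
      exact one_mem _
    rw [hNe] at hle
    exact ⟨C, hC, hCe, hle, relIndex_le_of_le_left hCe index_ne_zero_of_finite⟩
  intro p q hc
  obtain ⟨C, hC, hC1, hC2, hC3⟩ := key p q hc
  obtain ⟨C', hC', hC1', hC2', hC3'⟩ := key q p hc.symm
  have hcard : (ee V p q).relIndex (ws V p) = (ee V q p).relIndex (ws V q) := by omega
  have h1 : C ≤ ee V q p := by
    have e := relIndex_mul_relIndex (ee V q p) C (ws V q) hC1 fun u hu => ((hC u).1 hu).1
    have e2 : C.relIndex (ws V q) = (ee V q p).relIndex (ws V q) := by omega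
    rw [← e2] at e
    have e3 : C.relIndex (ws V q) ≠ 0 := index_ne_zero_of_finite
    have e4 : (ee V q p).relIndex C = 1 := Nat.eq_of_mul_eq_mul_right (Nat.pos_of_ne_zero e3) (by rw [e, one_mul])
    exact relIndex_eq_one.1 e4
  have h1' : C' ≤ ee V p q := by
    have e := relIndex_mul_relIndex (ee V p q) C' (ws V p) hC1' fun u hu => ((hC' u).1 hu).1
    have e2 : C'.relIndex (ws V p) = (ee V p q).relIndex (ws V p) := by omega
    rw [← e2] at e
    have e3 : C'.relIndex (ws V p) ≠ 0 := index_ne_zero_of_finite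
    have e4 : (ee V p q).relIndex C' = 1 := Nat.eq_of_mul_eq_mul_right (Nat.pos_of_ne_zero e3) (by rw [e, one_mul])
    exact relIndex_eq_one.1 e4
  exact ⟨fun b hb hk => kq_cent h hn hNO hG hc hb hk, fun w hw hk => kq_cent h hn hNO hG hc.symm hw hk,
    fun w hw hk => h1' ((hC' w).2 ⟨hw, hk⟩), fun b hb hk => h1 ((hC b).2 ⟨hb, hk⟩), hcard⟩

end Cfsg.Agent.Omega.NOThree.SecOne

end

section


/-!
# THEOREM LL (helper975 #18157): the language

`y : ℕ → G` is a geodesic `y 0, y 1, .., y n`, `n ≥ 3`.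

* `GG V n y` : GOAL, `(y 0, y n)` critical of type I with `[W_{y 0}, W_{y n}] ≤ W_{y 1}`;
* `ch x y` : the path `x, y 0, y 1, ..`;
* `Mv V n y x f` : mover: `x ∼ y 0`, `f ∈ W_{y n}` moves `x` (mod `y 0`), the elements of `W_x ∩ W_{y 0}` centralised by
  `f` lie in `W_{y 1}`;
* `Child V n y x f` : `(x, y (n-1))` is GOAL with the path `ch x y`, `(x, f)` is a mover with (D);
* `RedF`, `Term` : terminal pairs.
-/

set_option autoImplicit false
set_option linter.unusedSectionVars false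

namespace Cfsg.Agent.Omega.NOThree.LL

open Subgroup Cfsg Cfsg.Agent.ZN Cfsg.Agent.MinSimple.Geo Cfsg.Agent.Omega.CaseL Cfsg.Agent.Omega.NO3S.TwoOne
open Cfsg.Agent.Omega.NO3S.Pt
open Cfsg.Agent.Omega.NO3S.TwoMid (rr comm_mem_rr rr_comm)

universe u

variable {G : Type u} [Group G] {T V : Subgroup G} {z : G} {n m : ℕ} {y : ℕ → G} {x f : G}

/-- **GOAL** with the geodesic `y 0, .., y n` -/
structure GG (V : Subgroup G) (n : ℕ) (y : ℕ → G) : Prop where
  cr : Cr V n (y 0) (y n)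
  path : ∀ i < n, Col V (y i) (y (i + 1))
  not_mem : y 0 ∉ ws V (y n)
  not_mem' : y n ∉ ws V (y 0)
  le : ∀ a ∈ ws V (y 0), ∀ b ∈ ws V (y n), a * b * a⁻¹ * b⁻¹ ∈ ws V (y 1)

/-- the path `x, y 0, y 1, ..` -/
def ch (x : G) (y : ℕ → G) : ℕ → G
  | 0 => x
  | i + 1 => y i

@[simp] theorem ch_zero (x : G) (y : ℕ → G) : ch x y 0 = x := rfl

@[simp] theorem ch_succ (x : G) (y : ℕ → G) (i : ℕ) : ch x y (i + 1) = y i := rfl

/-- **mover** `(x, f)` of the pair `(y 0, y n)` -/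
structure Mv (V : Subgroup G) (n : ℕ) (y : ℕ → G) (x f : G) : Prop where
  mem : f ∈ ws V (y n)
  col : Col V (y 0) x
  ne : x ≠ y 0
  mv : f * x * f⁻¹ ≠ x
  mv' : f * x * f⁻¹ ≠ y 0 * x
  /-- `C_{U_μ}(f) ≤ U_λ` -/
  cen : ∀ u ∈ ws V x, u ∈ ws V (y 0) → f * u = u * f → u ∈ ws V (y 1)

/-- (D) for `(x, f)` -/
def DD (V : Subgroup G) (p x f : G) : Prop := ws V x ⊓ ws V (f * x * f⁻¹) ≤ ws V p

/-- **child** of the GOAL pair `(y 0, y n; y)`, `n = m + 3` -/
structure Child (V : Subgroup G) (m : ℕ) (y : ℕ → G) (x f : G) : Prop where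
  gg : GG V (m + 3) (ch x y)
  mv : Mv V (m + 3) y x f
  low : DD V (y 0) x f

/-- **terminal**: every mover with (D) is of type (β) -/
def Term (V : Subgroup G) (m : ℕ) (y : ℕ → G) : Prop :=
  ∀ x f, Mv V (m + 3) y x f → DD V (y 0) x f → Com V x (y (m + 2))

/-! ### paths -/

theorem pth_of_path (h : ∀ i < n, Col V (y i) (y (i + 1))) {i j : ℕ} (hij : i ≤ j) (hj : j ≤ n) (hi : i < n) :
    Pth V (j - i) (y i) (y j) := by
  induction j, hij using Nat.le_induction with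
  | base => rw [Nat.sub_self]; exact .zero (h i hi).left
  | succ j hij ih =>
    have h1 := ih (by omega)
    have e : j + 1 - i = j - i + 1 := by omega
    rw [e]
    exact h1.step (h j (by omega))

namespace GG

/-- the path from `y i` to `y j` -/
theorem pth (h : GG V n y) {i j : ℕ} (hij : i ≤ j) (hj : j ≤ n) (hi : i < n) : Pth V (j - i) (y i) (y j) :=
  pth_of_path h.path hij hj hi

theorem com (h : GG V n y) {i j : ℕ} (hij : i ≤ j) (hj : j ≤ n) (hi : i < n) (hn : j - i < n) :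
    Com V (y i) (y j) := h.cr.min _ hn _ _ (h.pth hij hj hi)

theorem no_pth (h : GG V n y) {k : ℕ} (hk : k < n) : ¬ Pth V k (y 0) (y n) := fun h1 => h.cr.ne (h.cr.min k hk _ _ h1)

/-- `d(y i, y j) = j - i` -/
theorem dist (h : GG V n y) {i j k : ℕ} (hij : i ≤ j) (hj : j ≤ n) (hi : i < n) (hk : k < j - i) :
    ¬ Pth V k (y i) (y j) := by
  intro h1
  have h2 : Pth V i (y 0) (y i) := by
    have := h.pth (Nat.zero_le i) hi.le (by omega)
    rwa [Nat.sub_zero] at this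
  rcases Nat.lt_or_ge j n with h3 | h3
  · have h4 := h.pth h3.le le_rfl h3
    exact h.no_pth (k := i + k + (n - j)) (by omega) ((h2.trans h1).trans h4)
  · obtain rfl : j = n := le_antisymm hj h3
    exact h.no_pth (k := i + k) (by omega) (h2.trans h1)

theorem col0 (h : GG V (m + 3) y) : Col V (y 0) (y 1) := h.path 0 (by omega)

theorem ne_succ (h : GG V n y) {i : ℕ} (hi : i < n) : y i ≠ y (i + 1) := by
  intro e
  refine h.dist (Nat.le_succ i) hi hi (k := 0) (by omega) ?_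
  rw [← e]
  exact .zero (h.path i hi).left

/-- type I pairs are exact, and `x^b = p x` never happens -/
theorem exact [Finite G] (hf : Fr T V z)
    (hNO : LemmaM.NoOver (NO3S.TwoFar.inc (V := V)) NO3S.TwoFar.RR NO3S.TwoFar.WS NO3S.TwoFar.VL)
    (h : GG V (m + 3) y) : SecOne.Exact V (y 0) (y (m + 3)) :=
  SecOne.exact_of_typeI hf (by omega) hNO h.cr h.not_mem h.not_mem'

end GG

end Cfsg.Agent.Omega.NOThree.LL

end

section


/-!
# NO-3S, TwoFar (`|V_P| = 4`, `n ≥ 3`): section 5 of #16267 (helper292): a goal pair exists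

* `Sp V p q x` : `x ∼ p` is special for the critical pair `(p, q)`: some `f ∈ W_q` moves `x` and
  `W_x ∩ W_{x^f} ≤ W_p`, that is, (D);
* `DGen V n` : the output of (4.2): for an exact critical pair `(p, q)` the special points generate `W_p` modulo
  `C_{W_p}(W_q)`;
* `exists_goal` : (NO) and (4.2) give a goal pair;
* `le_of_beta` : the same step for one pair: if (α) never occurs for `(p, q)`, then `[W_p, W_q] ≤ W_r`.
-/

set_option autoImplicit false

namespace Cfsg.Agent.Omega.NOThree.SecFive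

open Subgroup Cfsg Cfsg.Agent.ZN Cfsg.Agent.MinSimple.Geo Cfsg.Agent.Omega.CaseL Cfsg.Agent.Omega.NO3S.TwoOne
open Cfsg.Agent.Omega.NO3S.Pt Cfsg.Agent.Omega.NO3S.TwoFar
open Cfsg.Agent.Omega.NOThree.LemmaM (NoOver cm mem_cm)
open Cfsg.Agent.Omega.NOThree.SecOne

universe u

variable {G : Type u} [Group G] {T V : Subgroup G} {z p q r x f : G} {n : ℕ}

/-- `x` is special for the pair `(p, q)`. -/
def Sp (V : Subgroup G) (p q x : G) : Prop :=
  Col V x p ∧ ∃ f ∈ ws V q, f * x * f⁻¹ ≠ x ∧ ws V x ⊓ ws V (f * x * f⁻¹) ≤ ws V p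

/-- The output of (4.2). -/
def DGen (V : Subgroup G) (n : ℕ) : Prop :=
  ∀ p q, Cr V n p q → Exact V p q → ws V p ≤ ee V p q ⊔ closure {x | Sp V p q x}

/-- If the special points generate `W_p` modulo `C_{W_p}(W_q)` there is a special point. -/
theorem exists_sp (hc : Cr V n p q) (hg : ws V p ≤ ee V p q ⊔ closure {x | Sp V p q x}) : ∃ x, Sp V p q x := by
  by_contra hcon
  push Not at hcon
  have h1 : {x | Sp V p q x} = ∅ := by
    ext x
    exact ⟨fun hx => absurd hx (hcon x), fun hx => absurd hx (Set.notMem_empty x)⟩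
  rw [h1, Subgroup.closure_empty, sup_bot_eq] at hg
  exact hc.ne fun a ha b hb => (mem_ee.1 (hg ha)).2 b hb

/-- If (α) never occurs for the pair `(p, q)` and the special points generate `W_p` modulo `C_{W_p}(W_q)`, then
`p ∉ W_q` and `[W_p, W_q] ≤ W_r`, `r` the last point of the path before `q`. -/
theorem le_of_beta [Finite G] (h : Fr T V z) (hn : 3 ≤ n) (hNO : NoOver (inc (V := V)) RR WS VL)
    (hc : Cr V n p q) (hr : Pth V (n - 1) p r) (hrq : Col V r q)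
    (hG : ∀ x, Sp V p q x → ¬ Goal V n x p r)
    (hg : ws V p ≤ ee V p q ⊔ closure {x | Sp V p q x}) :
    p ∉ ws V q ∧ ∀ a ∈ ws V p, ∀ b ∈ ws V q, a * b * a⁻¹ * b⁻¹ ∈ ws V r := by
  have key : ∀ x, Sp V p q x → p ∉ ws V q ∧ ∀ a ∈ ws V x, ∀ u ∈ ws V q, a * u * a⁻¹ * u⁻¹ ∈ ws V r := by
    intro x hx
    obtain ⟨hxp, f, hf, hfx, hD⟩ := id hx
    rcases (lemM h hn hNO hc hr hrq hxp hf hfx hD).2 with h1 | ⟨-, h1, h2⟩
    · exact absurd h1 (hG x hx)
    · exact ⟨h1, h2⟩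
  refine ⟨(key _ (exists_sp hc hg).choose_spec).1, ?_⟩
  have hcom : Com V p r := hc.min (n - 1) (by omega) p r hr
  have h1 : ws V p ≤ cm (ws V p) (ws V q) (ws V r) hcom := by
    refine hg.trans (sup_le ?_ ?_)
    · intro a ha
      refine mem_cm.2 ⟨ha.1, fun b hb => ?_⟩
      rw [comm_eq_one ((mem_ee.1 ha).2 b hb)]
      exact one_mem _
    · rw [closure_le]
      intro x hx
      refine mem_cm.2 ⟨h.mem_ws_of_col hx.1.symm, fun b hb => ?_⟩
      exact (key x hx).2 x (h.mem_ws_self hx.1.left) b hb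
  exact fun a ha => (mem_cm.1 (h1 ha)).2

/-- **Section 5**: a goal pair exists. -/
theorem exists_goal [Finite G] (h : Fr T V z) (hn : 3 ≤ n) (hNO : NoOver (inc (V := V)) RR WS VL)
    (hD : DGen V n) (hex : ∃ p q, Cr V n p q) : ∃ p x q, Goal V n p x q := by
  rcases exact_or_goal h hn hNO with hG | ⟨hE, -⟩
  · exact hG
  by_contra hG
  obtain ⟨p, q, hc⟩ := hex
  obtain ⟨m, rfl⟩ : ∃ m, n = m + 1 := ⟨n - 1, by omega⟩
  obtain ⟨r, g, h1, h2, h3, h4, h5, h6, -⟩ := hc.last h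
  obtain ⟨r', g', h1', h2', h3', h4', h5', h6', -⟩ := hc.symm.last h
  have ha := le_of_beta h hn hNO hc (r := r) h1 (Col.of_mem h2 h3 h4 h5)
    (fun x _ hx => hG ⟨_, _, _, hx⟩) (hD p q hc (hE p q hc))
  have hb := le_of_beta h hn hNO hc.symm (r := r') h1' (Col.of_mem h2' h3' h4' h5')
    (fun x _ hx => hG ⟨_, _, _, hx⟩) (hD q p hc.symm (hE q p hc.symm))
  refine hG ⟨q, r, p, hc.symm, Col.of_mem h3 h2 h5 h4, h6, h1.symm, hb.1, ha.1, fun a ha' b hb' => ⟨?_, ?_⟩⟩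
  · exact hc.symm.comm_mem_left h ha' hb'
  · rw [comm_inv_eq a b]
    exact (ws V r).inv_mem (ha.2 b hb' a ha')

end Cfsg.Agent.Omega.NOThree.SecFive

end

section


/-!
# LEMMA M+ of helper626 (#17440), K-free, all `s`, `n ≥ 3`

`(p, q)` critical, `r` the last point of the walk before `q`, `x ∼ p`, `f ∈ W_q` moves `x`, `W_x ∩ W_{x^f} ≤ W_p`
(`LemmaM.MDat`), and `[W_x, W_r] = 1` (case (β)): then the whole `[W_p, W_q]` lies in `W_r`.

* `beta_full` : LEMMA M+ over `Pts.Geom`;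
* `lemMplus` : the same in the language of `Pt.Fr`, with (α);
* `exists_goal_one` : a goal pair exists if every (exact) critical pair has one special point.
-/

set_option autoImplicit false

namespace Cfsg.Agent.Omega.NOThree.MPlus

open Subgroup Cfsg Cfsg.Agent.ZN Cfsg.Agent.MinSimple.VModule Cfsg.Agent.Omega.NOThree.Pts
open Cfsg.Agent.Omega.NOThree.LemmaM

section pts

variable {G X L : Type*} [Group G] [MulAction G X] [MulAction G L]
variable {inc : X → L → Prop} {R W : X → Subgroup G} {V : L → Subgroup G} {s t n : ℕ}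
variable {p q r x : X} {l m : L} {f : G}

theorem comm_split {a w u : G} (h : a * (w * u * w⁻¹ * u⁻¹) = (w * u * w⁻¹ * u⁻¹) * a) :
    a * w * u * (a * w)⁻¹ * u⁻¹ = (w * u * w⁻¹ * u⁻¹) * (a * u * a⁻¹ * u⁻¹) := by
  calc a * w * u * (a * w)⁻¹ * u⁻¹ = a * (w * u * w⁻¹ * u⁻¹) * (u * a⁻¹ * u⁻¹) := by group
    _ = (w * u * w⁻¹ * u⁻¹) * (a * u * a⁻¹ * u⁻¹) := by rw [h]; group

/-- **LEMMA M+** -/
theorem beta_full [Finite G] (h : MDat inc R W V s t n p q r x l m f) (hc : Com W x r)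
    (hNO : NoOver inc R W V) : ∀ a ∈ W p, ∀ u ∈ W q, a * u * a⁻¹ * u⁻¹ ∈ W r := by
  have h3 := h.three
  have hrq : r ≠ q := h.crit.ne_last (by omega) h.walk
  have hxp : Com W x p := h.crit.min 1 (by omega) _ _ (Walk.one h.xm h.pm)
  have hpr : Com W p r := h.crit.com_last (by omega) h.walk
  obtain ⟨hb1, -, hb3⟩ := h.beta hc hNO
  -- `B = W_x W_p`
  let B : Subgroup G :=
    { carrier := {g | ∃ a ∈ W x, ∃ w ∈ W p, g = a * w}
      one_mem' := ⟨1, one_mem _, 1, one_mem _, by simp⟩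
      mul_mem' := by
        rintro _ _ ⟨a, ha, w, hw, rfl⟩ ⟨a', ha', w', hw', rfl⟩
        refine ⟨a * a', mul_mem ha ha', w * w', mul_mem hw hw', ?_⟩
        calc a * w * (a' * w') = a * (w * a') * w' := by group
          _ = a * a' * (w * w') := by rw [← hxp a' ha' w hw]; group
      inv_mem' := by
        rintro _ ⟨a, ha, w, hw, rfl⟩
        refine ⟨a⁻¹, inv_mem ha, w⁻¹, inv_mem hw, ?_⟩
        rw [hxp a ha w hw]; group }
  have hxB : W x ≤ B := fun a ha => ⟨a, ha, 1, one_mem _, by simp⟩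
  have hpB : W p ≤ B := fun w hw => ⟨1, one_mem _, w, hw, by simp⟩
  -- a subgroup containing `W_x`, `W_p` contains `B`
  have hBle : ∀ Z : Subgroup G, W x ≤ Z → W p ≤ Z → B ≤ Z := by
    rintro Z h1 h2 _ ⟨a, ha, w, hw, rfl⟩
    exact mul_mem (h1 ha) (h2 hw)
  have hBcomm : ∀ a ∈ B, ∀ b ∈ B, a * b = b * a := by
    rintro _ ⟨a, ha, w, hw, rfl⟩ _ ⟨a', ha', w', hw', rfl⟩
    calc a * w * (a' * w') = a * (w * a') * w' := by group
      _ = (a * a') * (w * w') := by rw [← hxp a' ha' w hw]; group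
      _ = (a' * a) * (w' * w) := by rw [h.D.comm x a ha a' ha', h.D.comm p w hw w' hw']
      _ = a' * (a * w') * w := by group
      _ = a' * w' * (a * w) := by rw [hxp a ha w' hw']; group
  have hBsq : ∀ a ∈ B, a * a = 1 := by
    rintro _ ⟨a, ha, w, hw, rfl⟩
    calc a * w * (a * w) = a * (w * a) * w := by group
      _ = (a * a) * (w * w) := by rw [← hxp a ha w hw]; group
      _ = 1 := by rw [h.D.sq x a ha, h.D.sq p w hw, one_mul]
  have hBr : ∀ b ∈ B, ∀ c ∈ W r, b * c = c * b := by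
    rintro _ ⟨a, ha, w, hw, rfl⟩ c hcr
    rw [mul_assoc, hpr w hw c hcr, ← mul_assoc, hc a ha c hcr, mul_assoc]
  have hRr : R q ≤ W r := h.R_le_r
  -- commutators of `W_x`, `W_p` with `W_q`
  have hwq : ∀ w ∈ W p, ∀ u ∈ W q, w * u * w⁻¹ * u⁻¹ ∈ W p := by
    intro w hw u hu
    have e : w * u * w⁻¹ * u⁻¹ = w * (u * w⁻¹ * u⁻¹) := by group
    rw [e]
    exact mul_mem hw (h.D.norm_W (h.fix_p hu) (inv_mem hw))
  have hxq : ∀ a ∈ W x, ∀ u ∈ W q, ∀ b ∈ B, b * (a * u * a⁻¹ * u⁻¹) = (a * u * a⁻¹ * u⁻¹) * b := by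
    intro a ha u hu
    have hup : Com W (u • x) p := by
      refine h.crit.min 1 (by omega) _ _ (Walk.one (l := u • m) (h.D.inc_smul u _ _ h.xm) ?_)
      have := h.D.inc_smul u _ _ h.pm
      rwa [h.fix_p hu] at this
    have h1 : u * a⁻¹ * u⁻¹ ∈ W (u • x) := h.D.W_smul u x _ (inv_mem ha)
    have e : a * u * a⁻¹ * u⁻¹ = a * (u * a⁻¹ * u⁻¹) := by group
    have hp' : ∀ w ∈ W p, w * (a * u * a⁻¹ * u⁻¹) = (a * u * a⁻¹ * u⁻¹) * w := by
      intro w hw
      rw [e, ← mul_assoc, ← hxp a ha w hw, mul_assoc, ← hup _ h1 w hw, ← mul_assoc]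
    rintro _ ⟨a', ha', w, hw, rfl⟩
    rw [mul_assoc, hp' w hw, ← mul_assoc, h.comm_comm hu ha ha', mul_assoc]
  have hBq : ∀ g ∈ B, ∀ u ∈ W q, ∀ b ∈ B, b * (g * u * g⁻¹ * u⁻¹) = (g * u * g⁻¹ * u⁻¹) * b := by
    rintro _ ⟨a, ha, w, hw, rfl⟩ u hu b hb
    have h1 := hwq w hw u hu
    have h2 := hxq a ha u hu b hb
    have h4 := hBcomm b hb _ (hpB h1)
    rw [comm_split (hxp a ha _ h1), ← mul_assoc, h4, mul_assoc, h2, ← mul_assoc]
  -- `N`, `C`
  have hBR : ∀ a ∈ B, ∀ c ∈ R q, a * c = c * a := fun a ha c hcc => hBr a ha c (hRr hcc)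
  have hqR : ∀ a ∈ W q, ∀ c ∈ R q, a * c = c * a := fun a ha c hcc => h.D.comm q a ha c (h.D.R_le_W q hcc)
  have hC : ∀ u, u ∈ cm (W q) B (R q) hqR ↔ u ∈ W q ∧ ∀ a ∈ B, a * u * a⁻¹ * u⁻¹ ∈ R q := by
    intro u
    rw [mem_cm]
    refine and_congr_right fun hu => forall₂_congr fun a ha => ?_
    have e : a * u * a⁻¹ * u⁻¹ = (u * a * u⁻¹ * a⁻¹)⁻¹ := by group
    rw [e, inv_mem_iff]
  set N := cm B (W q) (R q) hBR with hNdef
  set C := cm (W q) B (R q) hqR with hCdef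
  have hNB : N ≤ B := fun a ha => (mem_cm.1 ha).1
  have hno : N.relIndex B ≤ C.relIndex (W q) := by
    refine hNO q l h.ql B ?_ hBcomm hBsq ?_ ?_ N C (fun a => mem_cm) hC
    · exact hBle _ (h.D.low_line h.crit.min h.walk' le_rfl hc h.rl)
        (h.D.low_line h.crit.min h.walk (by omega) hpr h.rl)
    · intro y hy hyq a ha u hu huy
      exact hBr a ha u (h.D.inf_le h.ql hy h.rl hyq.symm ⟨hu, huy⟩)
    · exact fun a ha b hb u hu => hBq a ha u hu b hb
  have hCe : C.relIndex (W q) ≤ t := by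
    rw [← h.D.index q r l h.ql h.rl hrq.symm]
    refine relIndex_le_of_le_left ?_ (relIndex_ne_zero' _ _)
    intro u hu
    rw [hC]
    refine ⟨hu.1, fun a ha => ?_⟩
    have e : a * u * a⁻¹ * u⁻¹ = 1 := by rw [hBr a ha u hu.2]; group
    rw [e]; exact one_mem _
  have hNx : t ≤ N.relIndex (W x) := by
    rw [← inf_relIndex_right]
    refine h.t_le hc _ fun a => ?_
    rw [mem_inf, mem_cm]
    exact ⟨fun h => ⟨h.2, h.1.2⟩, fun h => ⟨⟨hxB h.1, h.2⟩, h.1⟩⟩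
  have hB : B ≤ W x ⊔ N := by
    rw [← relIndex_eq_one]
    have e1 := relIndex_mul_relIndex N (W x ⊔ N) B le_sup_right (sup_le hxB hNB)
    have e2 : N.relIndex (W x) ≤ N.relIndex (W x ⊔ N) :=
      relIndex_le_of_le_right le_sup_left (relIndex_ne_zero' _ _)
    have e3 := relIndex_ne_zero' N (W x ⊔ N)
    have e4 := relIndex_ne_zero' (W x ⊔ N) B
    have e5 : N.relIndex (W x ⊔ N) * (W x ⊔ N).relIndex B ≤ N.relIndex (W x ⊔ N) * 1 := by
      rw [e1, mul_one]; omega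
    have e6 := Nat.le_of_mul_le_mul_left e5 (Nat.pos_of_ne_zero e3)
    omega
  have hZ : B ≤ cm B (W q) (W r) hBr := by
    refine hB.trans (sup_le (fun a ha => ?_) fun a ha => ?_)
    · exact mem_cm.2 ⟨hxB ha, fun u hu => hb3 a ha u hu⟩
    · exact mem_cm.2 ⟨hNB ha, fun u hu => hRr ((mem_cm.1 ha).2 u hu)⟩
  exact fun a ha => (mem_cm.1 (hZ (hpB ha))).2

end pts

/-! ### In the language of `Pt.Fr` -/

section fr

open Cfsg.Agent.MinSimple.Geo Cfsg.Agent.Omega.CaseL Cfsg.Agent.Omega.NO3S.TwoOne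
open Cfsg.Agent.Omega.NO3S.Pt Cfsg.Agent.Omega.NO3S.TwoFar
open Cfsg.Agent.Omega.NOThree.SecOne Cfsg.Agent.Omega.NOThree.SecFive

universe u

variable {G : Type u} [Group G] {T V : Subgroup G} {z p q r x f : G} {n : ℕ}

/-- **LEMMA M+** : (α), or `p ∉ W_q` and `[W_p, W_q] ≤ W_r`. -/
theorem lemMplus [Finite G] (h : Fr T V z) (hn : 3 ≤ n)
    (hNO : LemmaM.NoOver (NO3S.TwoFar.inc (V := V)) RR WS VL)
    (hc : Cr V n p q) (hr : Pth V (n - 1) p r) (hrq : Col V r q) (hx : Col V x p) (hf : f ∈ ws V q)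
    (hfx : f * x * f⁻¹ ≠ x) (hD : ws V x ⊓ ws V (f * x * f⁻¹) ≤ ws V p) :
    Goal V n x p r ∨ (NO3S.Pt.Com V x r ∧ p ∉ ws V q ∧ ∀ a ∈ ws V p, ∀ u ∈ ws V q, a * u * a⁻¹ * u⁻¹ ∈ ws V r) := by
  rcases (lemM h hn hNO hc hr hrq hx hf hfx hD).2 with h1 | ⟨h1, h2, -⟩
  · exact Or.inl h1
  · obtain ⟨l, m, hM⟩ := mdat h hn hc hr hrq hx hf hfx hD
    have h3 := beta_full hM h1 hNO
    exact Or.inr ⟨h1, h2, h3⟩

/-- One special point: if (α) never occurs, `p ∉ W_q` and `[W_p, W_q] ≤ W_r`. -/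
theorem le_of_beta_one [Finite G] (h : Fr T V z) (hn : 3 ≤ n)
    (hNO : LemmaM.NoOver (NO3S.TwoFar.inc (V := V)) RR WS VL)
    (hc : Cr V n p q) (hr : Pth V (n - 1) p r) (hrq : Col V r q)
    (hG : ∀ x, Sp V p q x → ¬ Goal V n x p r) (hg : ∃ x, Sp V p q x) :
    p ∉ ws V q ∧ ∀ a ∈ ws V p, ∀ b ∈ ws V q, a * b * a⁻¹ * b⁻¹ ∈ ws V r := by
  obtain ⟨x, hx⟩ := hg
  obtain ⟨hxp, f, hf, hfx, hD⟩ := id hx
  rcases lemMplus h hn hNO hc hr hrq hxp hf hfx hD with h1 | ⟨-, h1⟩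
  · exact absurd h1 (hG x hx)
  · exact h1

/-- **A goal pair exists** if every exact critical pair with `x^b ≠ p x` has a special point. -/
theorem exists_goal_one [Finite G] (h : Fr T V z) (hn : 3 ≤ n)
    (hNO : LemmaM.NoOver (NO3S.TwoFar.inc (V := V)) RR WS VL)
    (hD : (∀ p q, Cr V n p q → Exact V p q) →
      (∀ p q, Cr V n p q → ∀ x, Col V x p → x ≠ p → ∀ b ∈ ws V q, b * x * b⁻¹ ≠ p * x) →
      ∀ p q, Cr V n p q → ∃ x, Sp V p q x)
    (hex : ∃ p q, Cr V n p q) : ∃ p x q, Goal V n p x q := by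
  rcases exact_or_goal h hn hNO with hG | ⟨hE, hE'⟩
  · exact hG
  by_contra hG
  obtain ⟨p, q, hc⟩ := hex
  obtain ⟨m, rfl⟩ : ∃ m, n = m + 1 := ⟨n - 1, by omega⟩
  obtain ⟨r, g, h1, h2, h3, h4, h5, h6, -⟩ := hc.last h
  obtain ⟨r', g', h1', h2', h3', h4', h5', h6', -⟩ := hc.symm.last h
  have ha := le_of_beta_one h hn hNO hc (r := r) h1 (Col.of_mem h2 h3 h4 h5)
    (fun x _ hx => hG ⟨_, _, _, hx⟩) (hD hE hE' p q hc)
  have hb := le_of_beta_one h hn hNO hc.symm (r := r') h1' (Col.of_mem h2' h3' h4' h5')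
    (fun x _ hx => hG ⟨_, _, _, hx⟩) (hD hE hE' q p hc.symm)
  refine hG ⟨q, r, p, hc.symm, Col.of_mem h3 h2 h5 h4, h6, h1.symm, hb.1, ha.1, fun a ha' b hb' => ⟨?_, ?_⟩⟩
  · exact hc.symm.comm_mem_left h ha' hb'
  · rw [comm_inv_eq a b]
    exact (ws V r).inv_mem (ha.2 b hb' a ha')

end fr

end Cfsg.Agent.Omega.NOThree.MPlus

end

end

-- merged: Cfsg.Agent.Mrg.Omega.NOThree.TF.ULam
section

section


/-!
# `U_λ = I_l/p` in `M_p` (NO-3S TwoFar, text #16267, section 0)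

`p`, `p₁` on the line `cj g V`, `λ = π p₁`, `U` = the image of `I_l = ii (cj g V)` (any `U` with
`hU : ∀ m, m ∈ U ↔ ∃ a ∈ ii (cj g V), π a = m`).

* `Md.mem_U`, `Md.lam_mem_U`, `Md.index_U` : `|M : U| = |W_z : I_V|`;
* `Md.stab_U` : the stabiliser of `λ` normalises `U`;
* `Md.mv_U` : (F2') for `u ∈ U`, `u ≠ 0`, `u ≠ λ` some `k ∈ Stab(λ)` has `k u = u + λ`;
* `Md.fix_U` : `[W_q, W_{p₁}] = 1` : `W_q` fixes `U`.
-/

set_option autoImplicit false
set_option linter.unusedSectionVars false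

namespace Cfsg.Agent.Omega.NOThree.TF

open Subgroup Cfsg Cfsg.Agent.ZN Cfsg.Agent.MinSimple.Geo Cfsg.Agent.Omega.CaseL Cfsg.Agent.Omega.NO3S.TwoOne
open Cfsg.Agent.Omega.NO3S.Pt
open Cfsg.Agent.ZN.Block (conj_mem_of_normalizer conj_mem_of_normalizer' le_normalizer_of_forall
  mem_normalizer_of)

universe u v

variable {G : Type u} [Group G] {M : Type v} [AddCommGroup M]

namespace Md

variable {T V : Subgroup G} {z p p₁ g : G} [DistribMulAction (centralizer ({p} : Set G)) M] {π : G → M}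
  {U : AddSubgroup M}

/-- the elements of the line -/
theorem four_cj (h : Fr T V z) (hp : p ∈ cj g V) (hp1 : p ≠ 1) (hq : p₁ ∈ cj g V) (hq1 : p₁ ≠ 1) (hne : p₁ ≠ p)
    {a : G} (ha : a ∈ cj g V) : a = 1 ∨ a = p ∨ a = p₁ ∨ a = p * p₁ := by
  obtain ⟨k, -, -, hf⟩ := h.flag hp hp1
  exact hf.ln.four hp hq hp1 hq1 (Ne.symm hne) ha

/-- `D ≤ M` is the image of `E ∩ W_p` : `|M : D| = |W_p : W_p ∩ E|` -/
theorem index_eq_relIndex (md : Md V p π) {D : AddSubgroup M} {E : Subgroup G}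
    (hDE : ∀ a ∈ ws V p, π a ∈ D ↔ a ∈ E) : D.index = E.relIndex (ws V p) := by
  let φ : ws V p →* Multiplicative (M ⧸ D) :=
    { toFun := fun a => Multiplicative.ofAdd (QuotientAddGroup.mk (π a))
      map_one' := by
        change Multiplicative.ofAdd ((QuotientAddGroup.mk (π (1 : G)) : M ⧸ D)) = 1
        rw [md.map_one]
        rfl
      map_mul' := by
        rintro ⟨a, ha⟩ ⟨b, hb⟩
        change Multiplicative.ofAdd ((QuotientAddGroup.mk (π (a * b)) : M ⧸ D)) = _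
        rw [md.map_mul a ha b hb]
        rfl }
  have hφ : Function.Surjective φ := by
    intro x
    obtain ⟨m, hm⟩ := QuotientAddGroup.mk_surjective (Multiplicative.toAdd x)
    obtain ⟨a, ha, rfl⟩ := md.surj m
    exact ⟨⟨a, ha⟩, by
      change Multiplicative.ofAdd ((QuotientAddGroup.mk (π a) : M ⧸ D)) = x
      rw [hm]
      rfl⟩
  have hk : φ.ker = E.subgroupOf (ws V p) := by
    ext ⟨a, ha⟩
    rw [MonoidHom.mem_ker, mem_subgroupOf]
    change Multiplicative.ofAdd ((QuotientAddGroup.mk (π a) : M ⧸ D)) = 1 ↔ a ∈ E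
    rw [← hDE a ha]
    exact QuotientAddGroup.eq_zero_iff (π a)
  have h1 : φ.ker.index = Nat.card (M ⧸ D) := by
    rw [index_ker, MonoidHom.range_eq_top.2 hφ]
    exact Nat.card_congr (Equiv.Set.univ _) |>.trans rfl
  rw [hk] at h1
  exact h1.symm

/-- the subgroup `U` -/
theorem exists_U (h : Fr T V z) (md : Md V p π) (hp : p ∈ cj g V) (hp1 : p ≠ 1) :
    ∃ U : AddSubgroup M, ∀ m, m ∈ U ↔ ∃ a ∈ ii (cj g V), π a = m := by
  have hle := h.ii_cj_le hp hp1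
  have hpc : Col V p p := Col.of_mem hp hp hp1 hp1
  refine ⟨{ carrier := {m | ∃ a ∈ ii (cj g V), π a = m}
            add_mem' := ?_
            zero_mem' := ⟨1, one_mem _, md.map_one⟩
            neg_mem' := ?_ }, fun m => Iff.rfl⟩
  · rintro _ _ ⟨a, ha, rfl⟩ ⟨b, hb, rfl⟩
    exact ⟨a * b, mul_mem ha hb, md.map_mul a (hle ha) b (hle hb)⟩
  · rintro _ ⟨a, ha, rfl⟩
    exact ⟨a, ha, (md.neg_eq h hpc _).symm⟩

section

variable (h : Fr T V z) (md : Md V p π) (hp : p ∈ cj g V) (hp1 : p ≠ 1)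
  (hU : ∀ m, m ∈ U ↔ ∃ a ∈ ii (cj g V), π a = m)
include h md hp hp1 hU

theorem π_mem_U {a : G} (ha : a ∈ ws V p) : π a ∈ U ↔ a ∈ ii (cj g V) := by
  have hpc : Col V p p := Col.of_mem hp hp hp1 hp1
  rw [hU]
  constructor
  · rintro ⟨b, hb, e⟩
    rcases (md.eq_iff h hpc ha (h.ii_cj_le hp hp1 hb)).1 e.symm with e | e
    · rwa [e]
    · rw [e]
      refine mul_mem ?_ hb
      intro r hr hr1
      rw [ws_cj]
      exact h.line_le_ws hr hp
  · exact fun ha' => ⟨a, ha', rfl⟩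

/-- `|M : U| = |W_z : I_V|` -/
theorem index_U : U.index = (ii V).relIndex (ws V z) := by
  rw [md.index_eq_relIndex (D := U) (E := ii (cj g V)) fun a ha => π_mem_U h md hp hp1 hU ha]
  exact NO3S.TwoFar.index_eq h (l := NO3S.TwoFar.ln V g) (x := NO3S.TwoFar.pt hp hp1) hp

end

section

variable (h : Fr T V z) (md : Md V p π) (hp : p ∈ cj g V) (hp1 : p ≠ 1) (hq : p₁ ∈ cj g V) (hq1 : p₁ ≠ 1)
  (hne : p₁ ≠ p) (hU : ∀ m, m ∈ U ↔ ∃ a ∈ ii (cj g V), π a = m)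
include h md hp hp1 hq hq1 hne

/-- the stabiliser of `λ` normalises the line -/
theorem norm_line {c : centralizer ({p} : Set G)} (hc : c • π p₁ = π p₁) :
    (c : G) ∈ normalizer ((cj g V : Subgroup G) : Set G) := by
  have hpc : Col V p p := Col.of_mem hp hp hp1 hp1
  have hqw : p₁ ∈ ws V p := h.line_le_ws hp hq
  have key : ∀ c : centralizer ({p} : Set G), c • π p₁ = π p₁ → ∀ a ∈ cj g V, (c : G) * a * (c : G)⁻¹ ∈ cj g V := by
    intro c hc a ha
    rw [← md.smul c p₁ hqw, md.eq_iff h hpc (conj_mem_ws_of_mem c.2 hqw) hqw] at hc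
    have e1 : (c : G) * p₁ * (c : G)⁻¹ ∈ cj g V := by
      rcases hc with e | e
      · rw [e]; exact hq
      · rw [e]; exact mul_mem hp hq
    have e2 : (c : G) * p * (c : G)⁻¹ = p :=
      NO3S.Dual.conj_eq_of_comm (mem_centralizer_singleton_iff.1 c.2)
    rcases four_cj h hp hp1 hq hq1 hne ha with e | e | e | e
    · rw [e]; simp
    · rw [e, e2]; exact hp
    · rw [e]; exact e1
    · rw [e]
      have e3 : (c : G) * (p * p₁) * (c : G)⁻¹ = ((c : G) * p * (c : G)⁻¹) * ((c : G) * p₁ * (c : G)⁻¹) := by group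
      rw [e3, e2]
      exact mul_mem hp e1
  refine mem_normalizer_of (fun a ha => key c hc a ha) fun a ha => ?_
  have := key c⁻¹ (by rw [inv_smul_eq_iff, hc]) a ha
  simpa using this

include hU

/-- the stabiliser of `λ` normalises `U` -/
theorem stab_U {c : centralizer ({p} : Set G)} (hc : c • π p₁ = π p₁) {u : M} (hu : u ∈ U) : c • u ∈ U := by
  obtain ⟨a, ha, rfl⟩ := (hU u).1 hu
  rw [← md.smul c a (h.ii_cj_le hp hp1 ha), hU]
  exact ⟨_, conj_mem_of_normalizer (normalizer_le_normalizer_ii _) (norm_line h md hp hp1 hq hq1 hne hc) ha, rfl⟩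

omit hq1 hne in
theorem lam_mem_U : π p₁ ∈ U := by
  rw [hU]
  refine ⟨p₁, ?_, rfl⟩
  intro r hr hr1
  rw [ws_cj]
  exact h.line_le_ws hr hq

/-- **(F2')** -/
theorem mv_U [Finite G] {u : M} (hu : u ∈ U) (hu0 : u ≠ 0) (hul : u ≠ π p₁) :
    ∃ k : centralizer ({p} : Set G), k • π p₁ = π p₁ ∧ k • u = u + π p₁ := by
  have hpc : Col V p p := Col.of_mem hp hp hp1 hp1
  have hle := h.ii_cj_le hp hp1
  obtain ⟨a, ha, rfl⟩ := (hU u).1 hu
  have hqw : p₁ ∈ ws V p := h.line_le_ws hp hq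
  have hpw : p ∈ ws V p := h.line_le_ws hp hp
  have haV : a ∉ cj g V := by
    intro haV
    rcases four_cj h hp hp1 hq hq1 hne haV with e | e | e | e
    · exact hu0 (by rw [e, md.map_one])
    · exact hu0 (by rw [e, md.map_p h hpc])
    · exact hul (by rw [e])
    · exact hul (by rw [e, md.map_mul p hpw p₁ hqw, md.map_p h hpc, zero_add])
  obtain ⟨k, -, hk, hka⟩ := h.fu_cj ha haV hq hq1
  have hkp : k ∈ centralizer ({p} : Set G) := by
    rw [mem_centralizer_singleton_iff]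
    exact (mem_centralizer_iff.1 hk p hp).symm
  refine ⟨⟨k, hkp⟩, ?_, ?_⟩
  · rw [← md.smul ⟨k, hkp⟩ p₁ hqw]
    congr 1
    exact NO3S.Dual.conj_eq_of_comm (mem_centralizer_iff.1 hk p₁ hq).symm
  · rw [← md.smul ⟨k, hkp⟩ a (hle ha)]
    change π (k * a * k⁻¹) = _
    rw [hka, md.map_mul p₁ hqw a (hle ha), add_comm]

omit hp1 hne in
/-- `W_q` fixes `U`, if `[W_{p₁}, W_q] = 1`. -/
theorem fix_U {q : G} (hcom : NO3S.Pt.Com V p₁ q) {f : centralizer ({p} : Set G)} (hf : (f : G) ∈ ws V q)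
    (hp1 : p ≠ 1) {u : M} (hu : u ∈ U) : f • u = u := by
  obtain ⟨a, ha, rfl⟩ := (hU u).1 hu
  rw [← md.smul f a (h.ii_cj_le hp hp1 ha)]
  congr 1
  exact NO3S.Dual.conj_eq_of_comm (hcom a (h.ii_cj_le hq hq1 ha) f hf).symm

end

end Md

end Cfsg.Agent.Omega.NOThree.TF

end

section


/-!
# TwoFar, THEOREM LL (#18157): `O₂(C_G(p)/K_p) = 1` for `M_p`, the data `BD` (section 4)

* `Md.pt_conj` : the line vectors of `M_p` are conjugate; `Md.span_pt` : they span; `Md.redM` : `O₂(C_G(p)/K_p) = 1`;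
* `Md.bd` : the data of `BD` (section 4) for a transvection with centre `c ∈ U_λ` which is not a line vector.
-/

set_option autoImplicit false
set_option linter.unusedSectionVars false

namespace Cfsg.Agent.Omega.NOThree.LL

open Subgroup Cfsg Cfsg.Agent.ZN Cfsg.Agent.MinSimple.Geo Cfsg.Agent.Omega.CaseL Cfsg.Agent.Omega.NO3S.TwoOne
open Cfsg.Agent.Omega.NO3S.Pt
open Cfsg.Agent.Omega.NOThree.TF (Md conj_mem_ws_of_mem exists_T)

universe u v

variable {G : Type u} [Group G] {T V : Subgroup G} {z p x : G} {M : Type v} [AddCommGroup M]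
  [DistribMulAction (centralizer ({p} : Set G)) M] {π : G → M}

/-- the line vectors of `M_p` are conjugate -/
theorem pt_conj (h : Fr T V z) (md : Md V p π) (hx : Col V p x) (hne : x ≠ p) {e : G} (he : Col V p e)
    (hne' : e ≠ p) : ∃ g : centralizer ({p} : Set G), g • π x = π e := by
  obtain ⟨g₁, p1, x1, hp1, hx1⟩ := id hx
  obtain ⟨g₂, p2, e2, -, he1⟩ := id he
  obtain ⟨k₁, a1, b1, -⟩ := h.flag p1 hp1
  obtain ⟨k₂, a2, b2, hf⟩ := h.flag p2 hp1
  have hc : (k₂ * k₁⁻¹) * p * (k₂ * k₁⁻¹)⁻¹ = p := by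
    nth_rewrite 1 [← b1]
    rw [← b2]
    group
  have hcp : k₂ * k₁⁻¹ ∈ centralizer ({p} : Set G) := by
    rw [mem_centralizer_singleton_iff]
    exact mul_inv_eq_iff_eq_mul.1 hc
  refine ⟨⟨k₂ * k₁⁻¹, hcp⟩, ?_⟩
  have hm : (k₂ * k₁⁻¹) * x * (k₂ * k₁⁻¹)⁻¹ ∈ cj g₂ V := by
    have h1 : (k₂ * k₁⁻¹) * x * (k₂ * k₁⁻¹)⁻¹ ∈ cj (k₂ * k₁⁻¹) (cj k₁ V) := by
      rw [a1]
      exact conj_mem_cj x1
    rwa [cj_cj, inv_mul_cancel_right, a2] at h1
  rw [← md.smul ⟨k₂ * k₁⁻¹, hcp⟩ x (h.mem_ws_of_col hx)]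
  have hne2 : (k₂ * k₁⁻¹) * x * (k₂ * k₁⁻¹)⁻¹ ≠ p := by
    intro e'
    apply hne
    have h2 := e'.trans hc.symm
    exact mul_left_cancel (mul_right_cancel h2)
  rcases hf.ln.four p2 e2 hp1 he1 (Ne.symm hne') hm with e' | e' | e' | e'
  · exact absurd (conj_eq_one_iff.1 e') hx1
  · exact absurd e' hne2
  · change π ((k₂ * k₁⁻¹) * x * (k₂ * k₁⁻¹)⁻¹) = _
    rw [e']
  · change π ((k₂ * k₁⁻¹) * x * (k₂ * k₁⁻¹)⁻¹) = _
    rw [e', md.map_mul p (h.mem_ws_self hx.left) e (h.mem_ws_of_col he), md.map_p h hx.left, zero_add]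

/-- `M = ⟨λ^H⟩` -/
theorem span_pt (h : Fr T V z) (md : Md V p π) (hx : Col V p x) (hne : x ≠ p) (m : M) :
    m ∈ AddSubgroup.closure {v | ∃ g : centralizer ({p} : Set G), v = g • π x} := by
  set D := AddSubgroup.closure {v | ∃ g : centralizer ({p} : Set G), v = g • π x} with hD
  obtain ⟨a, ha, rfl⟩ := md.surj m
  have h1 : ws V p ≤
      { carrier := {a | a ∈ ws V p ∧ π a ∈ D}
        one_mem' := ⟨one_mem _, by rw [md.map_one]; exact zero_mem _⟩
        mul_mem' := fun {a b} ha hb => ⟨mul_mem ha.1 hb.1, by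
          rw [md.map_mul a ha.1 b hb.1]; exact add_mem ha.2 hb.2⟩
        inv_mem' := fun {a} ha => ⟨inv_mem ha.1, by
          rw [inv_eq_of_mul_eq_one_left (h.ws_sq hx.left a ha.1)]; exact ha.2⟩ } := by
    refine ws_le ?_
    rintro _ ⟨⟨g, rfl⟩, hp⟩ a ha
    have hle := h.line_le_ws hp
    refine ⟨hle ha, ?_⟩
    by_cases ha1 : a = 1
    · rw [ha1, md.map_one]; exact zero_mem _
    by_cases hap : a = p
    · rw [hap, md.map_p h hx.left]; exact zero_mem _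
    obtain ⟨c, hc⟩ := pt_conj h md hx hne (Col.of_mem hp ha hx.ne_one ha1) hap
    rw [← hc]
    exact AddSubgroup.subset_closure ⟨c, rfl⟩
  exact (h1 ha).2

/-- `O₂(C_G(p)/K_p) = 1` -/
theorem redM_pt [Finite G] (h : Fr T V z) (md : Md V p π) (hx : Col V p x) (hne : x ≠ p) :
    RedM (centralizer ({p} : Set G)) M := by
  obtain ⟨T', h1, h2, h3, h4, -, -⟩ := exists_T h hx hne
  refine redM_of (T := T'.subgroupOf (centralizer ({p} : Set G))) h3 (lam := π x) ?_ (span_pt h md hx hne)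
  intro t ht
  rw [← md.smul t x (h.mem_ws_of_col hx)]
  rcases h4 t (mem_subgroupOf.1 ht) with e | e
  · rw [e]
  · rw [e, md.map_mul p (h.mem_ws_self hx.left) x (h.mem_ws_of_col hx), md.map_p h hx.left, zero_add]

/-- `M_p` is finite -/
theorem finite_Md [Finite G] (md : Md V p π) : Finite M := by
  refine Finite.of_surjective (fun a : ws V p => π a) fun v => ?_
  obtain ⟨a, ha, e⟩ := md.surj v
  exact ⟨⟨a, ha⟩, e⟩

/-- **the data of section 4** -/
theorem bd_of_tr [Finite G] (h : Fr T V z) (md : Md V p π) {g p₁ : G} (hp : p ∈ cj g V) (hp1 : p ≠ 1)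
    (hq : p₁ ∈ cj g V) (hq1 : p₁ ≠ 1) (hne : p₁ ≠ p) {U : AddSubgroup M}
    (hU : ∀ m, m ∈ U ↔ ∃ a ∈ ii (cj g V), π a = m) {c : M} (hc : c ∈ U)
    (hcl : ∀ g : centralizer ({p} : Set G), g • π p₁ ≠ c)
    (ht : ∃ t : centralizer ({p} : Set G), Tr c t ∧ ∀ u ∈ U, t • u = u) :
    BD (centralizer ({p} : Set G)) (π p₁) U c where
  two := md.two h (Col.of_mem hp hp hp1 hp1)
  red := redM_pt h md (Col.of_mem hp hq hp1 hq1) hne
  span := span_pt h md (Col.of_mem hp hq hp1 hq1) hne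
  lamU := md.lam_mem_U h hp hp1 hq hU
  inv := fun c hc u hu => md.stab_U h hp hp1 hq hq1 hne hU hc hu
  F2 := fun u hu h0 h1 => md.mv_U h hp hp1 hq hq1 hne hU hu h0 h1
  cU := hc
  cl := hcl
  tr := ht

end Cfsg.Agent.Omega.NOThree.LL

end

end
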